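import Mathlib
import Cfsg.Agent.Lib.Helper8.SPTEN.Defs

/-!
# SPTEN (S5980, helper8): package [ARITH]
-/

set_option autoImplicit false

namespace Cfsg.Agent.Lib.Helper32.SPTEN

open Cfsg.Agent.Lib.Helper8.SPTEN

/-- `r ∣ q ^ m - 1` iff `q ^ m = 1` in `ZMod r` -/
theorem dvd_pow_sub_one_iff (q r m : ℕ) (hq : 1 ≤ q) :
    r ∣ q ^ m - 1 ↔ (q : ZMod r) ^ m = 1 := by
  have h1 : 1 ≤ q ^ m := Nat.one_le_pow _ _ hq
  rw [← ZMod.natCast_eq_zero_iff, Nat.cast_sub h1, Nat.cast_pow, Nat.cast_one, sub_eq_zero]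

/-- **[ARITH]** -/
theorem pkgArith : PkgArith := by
  intro q d r hq hr hrq hdvd
  have hq1 : 1 ≤ q := by omega
  unfold Cfsg.Agent.Lib.Helper4.FXSP.spOrd at hdvd
  have h1 : r ∣ ∏ j ∈ Finset.range d, (q ^ (2 * (j + 1)) - 1) := by
    rcases (Nat.Prime.dvd_mul hr).1 hdvd with h | h
    · exact absurd (hr.dvd_of_dvd_pow h) hrq
    · exact h
  obtain ⟨j, hj, hjd⟩ := (Prime.dvd_finset_prod_iff hr.prime _).1 h1
  rw [Finset.mem_range] at hj
  have hpow : (q : ZMod r) ^ (2 * (j + 1)) = 1 := (dvd_pow_sub_one_iff q r _ hq1).1 hjd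
  have hi : orderOf (q : ZMod r) ∣ 2 * (j + 1) := orderOf_dvd_of_pow_eq_one hpow
  have hi0 : 0 < orderOf (q : ZMod r) := Nat.pos_of_dvd_of_pos hi (by omega)
  have hio : (q : ZMod r) ^ orderOf (q : ZMod r) = 1 := pow_orderOf_eq_one _
  by_cases hev : Even (orderOf (q : ZMod r))
  · obtain ⟨n, hn⟩ := hev
    have hn2 : orderOf (q : ZMod r) = 2 * n := by omega
    refine ⟨n, by omega, ?_, ?_, ?_⟩
    · rw [hn2] at hi
      have h2 : n ∣ j + 1 := (Nat.mul_dvd_mul_iff_left (by norm_num)).1 hi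
      have := Nat.le_of_dvd (by omega) h2
      omega
    · rw [dvd_pow_sub_one_iff q r _ hq1, ← hn2]
      exact hio
    · unfold cOf
      rw [if_pos ⟨n, hn⟩, hn2]
  · refine ⟨orderOf (q : ZMod r), hi0, ?_, ?_, ?_⟩
    · have hodd : Odd (orderOf (q : ZMod r)) := Nat.not_even_iff_odd.1 hev
      have hcop : Nat.Coprime (orderOf (q : ZMod r)) 2 := Nat.Coprime.symm (Nat.coprime_two_left.2 hodd)
      have h2 : orderOf (q : ZMod r) ∣ j + 1 := hcop.dvd_of_dvd_mul_left hi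
      have := Nat.le_of_dvd (by omega) h2
      omega
    · rw [dvd_pow_sub_one_iff q r _ hq1, mul_comm, pow_mul, hio, one_pow]
    · unfold cOf
      rw [if_neg hev]
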